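import Groth.Agent.Lib.AlgSt.LocalSub
import Groth.Agent.Lib.Stk.Neutral

/-!
# The substack of objects locally isomorphic to chosen ones
-/

set_option autoImplicit false
set_option backward.isDefEq.respectTransparency false
set_option backward.isDefEq.respectTransparency.types false

universe u

open CategoryTheory CategoryTheory.Functor AlgebraicGeometry

namespace GrothLib.BGMono

open _root_.AlgSt GrothLib.FibCat GrothLib.AlgSt GrothLib.Stk

variable {S : Scheme.{u}} {𝒳 : _root_.AlgSt.Cat S} (B : Neutral.Base 𝒳)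

/-- Locally isomorphic to one of the chosen objects. -/
def LocIso (a : 𝒳.obj) : Prop := Neutral.trivSieve B a (𝒳.p.obj a) ∈ AlgSp.J S (𝒳.p.obj a)

theorem locIso_obj (V : Over S) : LocIso B (B.obj V) := by
  refine (AlgSp.J S).superset_covering ?_ ((AlgSp.J S).top_mem _)
  intro W g _
  have := B.lift (g ≫ eqToHom (B.lies V))
  exact ⟨⟨B.map (g ≫ eqToHom (B.lies V)), IsHomLift.of_fac' _ _ _ (B.lies W) rfl (by
    rw [IsHomLift.fac' 𝒳.p (g ≫ eqToHom (B.lies V)) (B.map (g ≫ eqToHom (B.lies V)))]; simp)⟩⟩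

theorem locIso_of_hom (hG : _root_.FibCat.IsFibGrpd 𝒳.p) {η η' : 𝒳.obj} (μ : η' ⟶ η) (h : LocIso B η) :
    LocIso B η' := by
  refine (AlgSp.J S).superset_covering ?_ ((AlgSp.J S).pullback_stable (𝒳.p.map μ) h)
  intro V g hg
  obtain ⟨κ⟩ := hg
  have := κ.2
  have := IsHomLift.map 𝒳.p μ
  obtain ⟨i, ⟨hi, -⟩, -⟩ := IsFibGrpd.existsUnique_lift hG (𝒳.p.map μ) g μ κ.1
  exact ⟨⟨i, hi⟩⟩

theorem locIso_local (ξ : 𝒳.obj) (R : Sieve (𝒳.p.obj ξ)) (hR : R ∈ AlgSp.J S _)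
    (h : ∀ ⦃V : Over S⦄ (f : V ⟶ 𝒳.p.obj ξ), R f →
      ∃ (η : 𝒳.obj) (g : η ⟶ ξ), 𝒳.p.IsHomLift f g ∧ LocIso B η) : LocIso B ξ := by
  refine (AlgSp.J S).transitive hR _ fun V f hf => ?_
  obtain ⟨η, g, hg, hη⟩ := h f hf
  have := hg
  obtain rfl := IsHomLift.domain_eq 𝒳.p f g
  refine (AlgSp.J S).superset_covering ?_ hη
  intro W q hq
  obtain ⟨κ⟩ := hq
  have := κ.2
  exact ⟨⟨κ.1 ≫ g, inferInstance⟩⟩

/-- The substack. -/
abbrev sub : _root_.AlgSt.Cat S := fullSub 𝒳 (LocIso B)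

theorem isStack_sub (h : _root_.Stk.IsStack (AlgSp.J S) 𝒳) : _root_.Stk.IsStack (AlgSp.J S) (sub B) :=
  isStack_fullSub h (LocIso B) (fun μ hη => locIso_of_hom B h.1 μ hη) (locIso_local B)

/-- The chosen objects in the substack. -/
def subBase : Neutral.Base (sub B) where
  obj V := ⟨B.obj V, locIso_obj B V⟩
  map r := ObjectProperty.homMk (B.map r)
  lift {W V} r := IsHomLift.of_fac' _ _ _ (B.lies W) (B.lies V) (by
    have := B.lift r
    exact IsHomLift.fac' 𝒳.p r (B.map r))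
  map_id V := ObjectProperty.hom_ext _ (B.map_id V)
  map_comp s r := ObjectProperty.hom_ext _ (B.map_comp s r)

theorem trivSieve_subBase (b : (sub B).obj) (T : Over S) (hb : (sub B).p.obj b = T) :
    Neutral.trivSieve (subBase B) b T ∈ AlgSp.J S T := by
  subst hb
  refine (AlgSp.J S).superset_covering ?_ b.property
  intro V g hg
  obtain ⟨κ⟩ := hg
  have := κ.2
  exact ⟨⟨(ObjectProperty.homMk κ.1 : (subBase B).obj V ⟶ b),
    IsHomLift.of_fac' _ _ _ (B.lies V) rfl (IsHomLift.fac' 𝒳.p g κ.1)⟩⟩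

/-- Vertical endomorphisms in the substack. -/
def subVertEquiv (V : Over S) : Neutral.Vert B V ≃ Neutral.Vert (subBase B) V where
  toFun s := ⟨(ObjectProperty.homMk s.1 : (subBase B).obj V ⟶ (subBase B).obj V),
    IsHomLift.of_fac' _ _ _ (B.lies V) (B.lies V) (by have := s.2; exact IsHomLift.fac' 𝒳.p (𝟙 V) s.1)⟩
  invFun t := ⟨t.1.hom, IsHomLift.of_fac' _ _ _ (B.lies V) (B.lies V) (by
    have := t.2
    exact IsHomLift.fac' (sub B).p (𝟙 V) t.1)⟩
  left_inv _ := rfl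
  right_inv _ := rfl

variable {B} {𝒜 : _root_.AlgSt.Cat S} {A : Neutral.Base 𝒜}

/-- A matching factors through the substack. -/
def subMatch (M : Neutral.AutMatch A B) : Neutral.AutMatch A (subBase B) where
  θ V := (M.θ V).trans (subVertEquiv B V)
  map_comp V s t := by
    simp only [Equiv.trans_apply, M.map_comp]
    rfl
  natural r s' s e := ObjectProperty.hom_ext _ (M.natural r s' s e)

end GrothLib.BGMono

namespace GrothLib.Stk.Neutral

open GrothLib.FibCat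

variable {C : Type*} [Category C] {𝒳 𝒴 : BasedCategory C} {A : Base 𝒳} {B : Base 𝒴} {M : AutMatch A B}

/-- Naturality of the linked trivialisations. -/
theorem Lk.Φ_square {X Y : Lk M} (f : X ⟶ Y) {W V : C} (r : W ⟶ V) {g : W ⟶ X.T} {g' : V ⟶ Y.T}
    (κ : Loc A X.a g) (κ' : Loc A Y.a g') (e : A.map r ≫ κ'.1 = κ.1 ≫ f.α) :
    B.map r ≫ (Y.Φ g' κ').1 = (X.Φ g κ).1 ≫ f.β := by
  have he : g ≫ f.base = r ≫ g' := by
    have := A.lift r
    have := κ'.2
    have := κ.2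
    have := f.hα
    have h1 : 𝒳.p.IsHomLift (r ≫ g') (κ.1 ≫ f.α) := e ▸ inferInstanceAs (𝒳.p.IsHomLift (r ≫ g') (A.map r ≫ κ'.1))
    rw [IsHomLift.fac 𝒳.p (g ≫ f.base) (κ.1 ≫ f.α), IsHomLift.fac 𝒳.p (r ≫ g') (κ.1 ≫ f.α)]
  exact (Y.nat r g' κ').symm.trans ((Y.Φ_congr he (A.push κ f.α f.hα) (A.res r κ') e).symm.trans (f.compat g κ))

end GrothLib.Stk.Neutral
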